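import Mathlib

set_option autoImplicit false
set_option linter.unusedSectionVars false

namespace Cfsg.Agent.Soft

open scoped commutatorElement
open Subgroup

universe u

/-- Soft subgroup. -/
structure IsSoft (p : ℕ) {P : Type u} [Group P] (E : Subgroup P) : Prop where
  comm : ∀ a ∈ E, ∀ b ∈ E, a * b = b * a
  cent : centralizer (E : Set P) ≤ E
  rel : E.relIndex (normalizer (E : Set P)) = p

section
variable {P : Type u} [Group P] [Finite P] {p : ℕ} [hp : Fact p.Prime]

lemma lt_normalizer_inf (hP : Group.IsNilpotent P) {A K : Subgroup P} (h : A < K) :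
    A < normalizer (A : Set P) ⊓ K := by
  refine lt_of_le_of_ne (le_inf le_normalizer h.le) fun heq => ?_
  have hK : Group.IsNilpotent ↥K := inferInstance
  have hA : A.subgroupOf K < ⊤ := by
    rw [lt_top_iff_ne_top, Ne, subgroupOf_eq_top]
    exact fun hle => h.not_ge hle
  have hlt := Group.normalizerCondition_of_isNilpotent (G := ↥K) (A.subgroupOf K) hA
  obtain ⟨x, hx, hxA⟩ := SetLike.exists_of_lt hlt
  apply hxA
  rw [mem_subgroupOf]
  rw [heq]
  refine mem_inf.mpr ⟨?_, x.2⟩
  rw [mem_normalizer_iff] at hx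
  rw [mem_normalizer_iff]
  intro a
  constructor
  · intro ha
    exact mem_subgroupOf.mp ((hx ⟨a, h.le ha⟩).mp (mem_subgroupOf.mpr ha))
  · intro ha
    have haK : a ∈ K := by
      have h1 : (x : P) * a * (x : P)⁻¹ ∈ K := h.le ha
      have h2 := K.mul_mem (K.mul_mem (K.inv_mem x.2) h1) x.2
      simpa [mul_assoc] using h2
    exact mem_subgroupOf.mp ((hx ⟨a, haK⟩).mpr (mem_subgroupOf.mpr ha))

lemma eq_of_le_of_prime_relIndex {A B N : Subgroup P} (hAB : A < B) (hBN : B ≤ N)
    (h : A.relIndex N = p) : B = N := by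
  refine le_antisymm hBN ?_
  have h1 : A.relIndex B * B.relIndex N = p := by
    rw [relIndex_mul_relIndex _ _ _ hAB.le hBN, h]
  rcases (Nat.dvd_prime hp.out).mp (Dvd.intro_left _ h1) with h2 | h2
  · exact relIndex_eq_one.mp h2
  · exfalso
    rw [h2] at h1
    have : A.relIndex B = 1 := (Nat.mul_eq_right hp.out.ne_zero).mp h1
    exact hAB.not_ge (relIndex_eq_one.mp this)

lemma sup_zpowers_eq {A N : Subgroup P} (hA : A ≤ N) (h : A.relIndex N = p) {g : P} (hg : g ∈ N)
    (hgA : g ∉ A) : A ⊔ zpowers g = N := by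
  refine eq_of_le_of_prime_relIndex ?_ (sup_le hA (zpowers_le.mpr hg)) h
  exact lt_of_le_of_ne le_sup_left fun he =>
    hgA (by rw [he]; exact le_sup_right (a := A) (mem_zpowers g))

lemma normalizer_le_of_lt (hP : IsPGroup p P) {A K : Subgroup P}
    (hA : A.relIndex (normalizer (A : Set P)) = p) (h : A < K) :
    normalizer (A : Set P) ≤ K := by
  have := eq_of_le_of_prime_relIndex (lt_normalizer_inf hP.isNilpotent h) inf_le_left hA
  exact this ▸ inf_le_right

/-- The number of conjugates bound. -/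
lemma rel_normalizer_normalizer (hP : IsPGroup p P) {E : Subgroup P} (hE : IsSoft p E)
    (hne : normalizer (E : Set P) ≠ ⊤) :
    (normalizer (E : Set P)).relIndex (normalizer (normalizer (E : Set P) : Set P)) = p := by
  classical
  set N1 := normalizer (E : Set P) with hN1
  set N2 := normalizer (N1 : Set P) with hN2
  have hlt : N1 < N2 := by
    have := lt_normalizer_inf hP.isNilpotent (A := N1) (K := ⊤) (lt_top_iff_ne_top.mpr hne)
    rwa [inf_top_eq] at this
  let q := ↥N2 ⧸ N1.subgroupOf N2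
  let f : q → Subgroup P := fun x => E.map (MulAut.conj (x.out : P)).toMonoidHom
  have hcard : Nat.card q = N1.relIndex N2 := rfl
  have hmem : ∀ x : q, ∀ a, a ∈ f x ↔ ((x.out : P))⁻¹ * a * (x.out : P) ∈ E := by
    intro x a
    simp only [f, mem_map]
    constructor
    · rintro ⟨e, he, rfl⟩
      simpa [MulAut.conj_apply, mul_assoc] using he
    · intro h
      exact ⟨_, h, by simp [MulAut.conj_apply, mul_assoc]⟩
  have hinj : Function.Injective f := by
    intro x y hxy
    rw [← QuotientGroup.out_eq' x, ← QuotientGroup.out_eq' y]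
    apply QuotientGroup.eq.mpr
    rw [mem_subgroupOf, coe_mul, coe_inv]
    refine mem_normalizer_iff.mpr ?_
    intro a
    have h1 := hmem x ((x.out : P) * ((x.out : P)⁻¹ * (y.out : P) * a *
      ((x.out : P)⁻¹ * (y.out : P))⁻¹) * (x.out : P)⁻¹)
    have h2 := hmem y ((x.out : P) * ((x.out : P)⁻¹ * (y.out : P) * a *
      ((x.out : P)⁻¹ * (y.out : P))⁻¹) * (x.out : P)⁻¹)
    rw [hxy] at h1
    rw [h2] at h1
    simp only [mul_inv_rev, inv_inv] at h1
    simpa [mul_assoc] using h1
  have hfle : ∀ x, f x ≤ N1 := by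
    intro x a ha
    have h1 : (x.out : P)⁻¹ * a * (x.out : P) ∈ N1 := le_normalizer ((hmem x a).mp ha)
    have h2 := (mem_normalizer_iff.mp (x.out.2 : (x.out : P) ∈ N2) _).mp h1
    simpa [mul_assoc] using h2
  have hfc : ∀ x, Nat.card (f x) = Nat.card E := fun x =>
    (Nat.card_congr (E.equivMapOfInjective _ (MulEquiv.injective _)).toEquiv).symm
  have hfcomm : ∀ x, ∀ a ∈ f x, ∀ b ∈ f x, a * b = b * a := by
    rintro x _ ⟨a, ha, rfl⟩ _ ⟨b, hb, rfl⟩
    rw [← map_mul, ← map_mul, hE.comm a ha b hb]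
  have hfcent : ∀ x, centralizer (f x : Set P) ≤ f x := by
    intro x a ha
    rw [hmem]
    refine hE.cent (mem_centralizer_iff.mpr fun e he => ?_)
    have h1 := mem_centralizer_iff.mp ha ((x.out : P) * e * (x.out : P)⁻¹)
      ((hmem x _).mpr (by simpa [mul_assoc] using he))
    apply mul_left_cancel (a := (x.out : P))
    apply mul_right_cancel (b := (x.out : P)⁻¹)
    simpa [mul_assoc] using h1
  set Z := centralizer (N1 : Set P) ⊓ N1 with hZ
  have hZle : ∀ x, Z ≤ f x := fun x =>
    (inf_le_left.trans (centralizer_le (hfle x))).trans (hfcent x)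
  have hEN : Nat.card E * p = Nat.card N1 := by
    rw [← hE.rel, ← Nat.card_congr (subgroupOfEquivOfLe (le_normalizer (H := E))).toEquiv]
    exact card_mul_index _
  have hrel : ∀ x, (f x).relIndex N1 = p := by
    intro x
    have h1 : Nat.card ((f x).subgroupOf N1) * (f x).relIndex N1 = Nat.card N1 :=
      card_mul_index _
    rw [Nat.card_congr (subgroupOfEquivOfLe (hfle x)).toEquiv, hfc, ← hEN] at h1
    exact Nat.eq_of_mul_eq_mul_left Nat.card_pos h1
  have hint : ∀ x y, x ≠ y → f x ⊓ f y = Z := by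
    intro x y hxy
    refine le_antisymm ?_ (le_inf (hZle x) (hZle y))
    intro a ha
    refine mem_inf.mpr ⟨?_, hfle x (mem_inf.mp ha).1⟩
    have hne' : f x < f x ⊔ f y := by
      refine lt_of_le_of_ne le_sup_left fun he => hxy (hinj ?_).symm
      exact eq_of_le_of_card_ge (he ▸ le_sup_right) (by rw [hfc, hfc])
    have hsup := eq_of_le_of_prime_relIndex hne' (sup_le (hfle x) (hfle y)) (hrel x)
    have hle : f x ⊔ f y ≤ centralizer ({a} : Set P) :=
      sup_le (fun b hb => mem_centralizer_singleton_iff.mpr (hfcomm x b hb a (mem_inf.mp ha).1))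
        (fun b hb => mem_centralizer_singleton_iff.mpr (hfcomm y b hb a (mem_inf.mp ha).2))
    rw [hsup] at hle
    exact mem_centralizer_iff.mpr fun b hb => mem_centralizer_singleton_iff.mp (hle hb)
  have hq2 : 2 ≤ Nat.card q := by
    rw [hcard]
    have h0 : N1.relIndex N2 ≠ 0 := hcard ▸ Nat.card_pos.ne'
    have h1 : N1.relIndex N2 ≠ 1 := fun h => hlt.not_ge (relIndex_eq_one.mp h)
    omega
  obtain ⟨x₀, y₀, hxy₀⟩ : ∃ x y : q, x ≠ y := by
    haveI : Nontrivial q := Finite.one_lt_card_iff_nontrivial.mp hq2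
    exact exists_pair_ne q
  have hZlt : Z < f x₀ := by
    refine lt_of_le_of_ne (hZle _) fun he => hxy₀ (hinj ?_)
    have h1 : f x₀ ≤ f y₀ := he ▸ hZle y₀
    exact eq_of_le_of_card_ge h1 (by rw [hfc, hfc])
  have hZrel : Z.relIndex N1 ≤ p * p := by
    rw [← hint x₀ y₀ hxy₀]
    exact relIndex_inf_le.trans (le_of_eq (by rw [hrel, hrel]))
  have hZf : Z.relIndex (f x₀) * p = Z.relIndex N1 := by
    rw [← relIndex_mul_relIndex _ _ _ (hZle x₀) (hfle x₀), hrel]
  have hZp : Z.relIndex (f x₀) = p := by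
    have h1 : Z.relIndex (f x₀) ≤ p := by
      have := hp.out.pos
      nlinarith
    have h2 : Z.relIndex (f x₀) ≠ 1 := fun h => hZlt.not_ge (relIndex_eq_one.mp h)
    obtain ⟨k, hk⟩ := IsPGroup.iff_card.mp (hP.to_subgroup (f x₀))
    have h3 : Z.relIndex (f x₀) ∣ p ^ k := by
      rw [← hk]; exact index_dvd_card _
    obtain ⟨j, -, hj⟩ := (Nat.dvd_prime_pow hp.out).mp h3
    rcases Nat.lt_or_ge j 1 with hj0 | hj1
    · exact absurd (by rw [hj, Nat.lt_one_iff.mp hj0, pow_zero]) h2
    · refine le_antisymm h1 ?_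
      rw [hj]
      calc p = p ^ 1 := (pow_one p).symm
        _ ≤ p ^ j := Nat.pow_le_pow_right hp.out.pos hj1
  -- counting
  have hcz : Nat.card Z * p = Nat.card E := by
    rw [← hfc x₀, ← hZp, ← Nat.card_congr (subgroupOfEquivOfLe (hZle x₀)).toEquiv]
    exact card_mul_index _
  haveI : Fintype P := Fintype.ofFinite P
  let S : q → Finset P := fun x => (f x : Set P).toFinset \ (Z : Set P).toFinset
  have hS : ∀ x, (S x).card = Nat.card E - Nat.card Z := by
    intro x
    rw [Finset.card_sdiff_of_subset, Set.toFinset_card, Set.toFinset_card,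
      ← Nat.card_eq_fintype_card, ← Nat.card_eq_fintype_card, ← hfc x]
    · rfl
    · intro a ha
      simp only [Set.mem_toFinset, SetLike.mem_coe] at ha ⊢
      exact hZle x ha
  haveI : Fintype q := Fintype.ofFinite q
  have hdisj : ((Finset.univ : Finset q) : Set q).PairwiseDisjoint S := by
    intro x _ y _ hxy
    rw [Function.onFun, Finset.disjoint_left]
    intro a hax hay
    simp only [S, Finset.mem_sdiff, Set.mem_toFinset, SetLike.mem_coe] at hax hay
    exact hax.2 (hint x y hxy ▸ mem_inf.mpr ⟨hax.1, hay.1⟩)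
  have hsub : Finset.univ.biUnion S ⊆ (N1 : Set P).toFinset \ (Z : Set P).toFinset := by
    intro a ha
    simp only [S, Finset.mem_biUnion, Finset.mem_univ, true_and, Finset.mem_sdiff,
      Set.mem_toFinset, SetLike.mem_coe] at ha ⊢
    obtain ⟨x, hx1, hx2⟩ := ha
    exact ⟨hfle x hx1, hx2⟩
  have hle := Finset.card_le_card hsub
  rw [Finset.card_biUnion hdisj, Finset.card_sdiff_of_subset] at hle
  swap
  · intro a ha
    simp only [Set.mem_toFinset, SetLike.mem_coe] at ha ⊢
    exact (mem_inf.mp ha).2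
  simp only [hS, Finset.sum_const, Finset.card_univ, smul_eq_mul, Set.toFinset_card] at hle
  rw [← Nat.card_eq_fintype_card, hcard] at hle
  have e1 : Fintype.card ↥(N1 : Set P) = Nat.card N1 := Nat.card_eq_fintype_card.symm
  have e2 : Fintype.card ↥(Z : Set P) = Nat.card Z := Nat.card_eq_fintype_card.symm
  rw [e1, e2, ← hEN, ← hcz] at hle
  obtain ⟨k, hk⟩ := IsPGroup.iff_card.mp (hP.to_subgroup N2)
  have h3 : N1.relIndex N2 ∣ p ^ k := by
    rw [← hk]; exact index_dvd_card _
  obtain ⟨j, -, hj⟩ := (Nat.dvd_prime_pow hp.out).mp h3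
  rw [hj] at hle ⊢
  have hj0 : j ≠ 0 := fun h => by
    rw [h, pow_zero] at hj; exact hlt.not_ge (relIndex_eq_one.mp hj)
  by_contra hne1
  have hj2 : 2 ≤ j := by
    rcases Nat.lt_or_ge j 2 with h | h
    · interval_cases j
      · exact absurd rfl hj0
      · exact absurd (pow_one p) hne1
    · exact h
  have hpj : p * p ≤ p ^ j := by
    calc p * p = p ^ 2 := (sq p).symm
      _ ≤ p ^ j := Nat.pow_le_pow_right hp.out.pos hj2
  have hz : 0 < Nat.card Z := Nat.card_pos
  have hp2 := hp.out.two_le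
  obtain ⟨p', rfl⟩ : ∃ p', p = p' + 1 := ⟨p - 1, by omega⟩
  have hA : Nat.card Z * (p' + 1) - Nat.card Z = Nat.card Z * p' := by
    rw [mul_add, mul_one, Nat.add_sub_cancel]
  have hB : Nat.card Z * (p' + 1) * (p' + 1) - Nat.card Z = Nat.card Z * (p' * (p' + 2)) := by
    have : Nat.card Z * (p' + 1) * (p' + 1) = Nat.card Z * (p' * (p' + 2)) + Nat.card Z := by ring
    omega
  rw [hA, hB] at hle
  have h5 : (p' + 1) ^ j * p' ≤ p' * (p' + 2) := by
    refine Nat.le_of_mul_le_mul_left ?_ hz
    calc Nat.card Z * ((p' + 1) ^ j * p') = (p' + 1) ^ j * (Nat.card Z * p') := by ring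
      _ ≤ _ := hle
  nlinarith [Nat.mul_le_mul_right p' hpj]

end

end Cfsg.Agent.Soft
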