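import Cfsg.Agent.Lib.Soft.Basic

set_option autoImplicit false
set_option linter.unusedSectionVars false

namespace Cfsg.Agent.Soft

open scoped commutatorElement
open Subgroup

universe u

section
variable {P : Type u} [Group P] [Finite P] {p : ℕ} [hp : Fact p.Prime]

lemma le_of_mem_normalizer_conj (E : Subgroup P) {g : P}
    (h : ∀ e ∈ E, g * e * g⁻¹ ∈ E) : g ∈ normalizer (E : Set P) := by
  rw [mem_normalizer_iff]
  intro a
  refine ⟨h a, fun ha => ?_⟩
  have hEq : E.map (MulAut.conj g).toMonoidHom = E := by
    refine eq_of_le_of_card_ge ?_ ?_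
    · rintro _ ⟨e, he, rfl⟩
      exact h e he
    · rw [Nat.card_congr (E.equivMapOfInjective (MulAut.conj g).toMonoidHom (MulEquiv.injective _)).toEquiv]
  rw [← hEq] at ha
  obtain ⟨e, he, hea⟩ := ha
  have : e = a := by simpa [MulAut.conj_apply] using hea
  exact this ▸ he

lemma normalizer_le_normalizer_lcs (K : Subgroup P) (n : ℕ) :
    normalizer (K : Set P) ≤ normalizer (K.lowerCentralSeries n : Set P) := by
  intro g hg
  refine le_of_mem_normalizer_conj _ fun e he => ?_
  have hK : K.map (MulAut.conj g).toMonoidHom = K := by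
    refine eq_of_le_of_card_ge ?_ ?_
    · rintro _ ⟨a, ha, rfl⟩
      exact (mem_normalizer_iff.mp hg a).mp ha
    · rw [Nat.card_congr (K.equivMapOfInjective (MulAut.conj g).toMonoidHom (MulEquiv.injective _)).toEquiv]
  have h1 := mem_map_of_mem (MulAut.conj g).toMonoidHom he
  rw [map_lowerCentralSeries, hK] at h1
  simpa [MulAut.conj_apply] using h1

/-- Lower bound for the nilpotency class of a member of the tower. -/
lemma index_gt_of_lcs (hP : IsPGroup p P) {E K : Subgroup P} (hE : IsSoft p E) (hEK : E ≤ K)
    (hrel : ∀ A : Subgroup P, E ≤ A → A < K → A.relIndex (normalizer (A : Set P)) = p)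
    {i : ℕ} (hi : K.index * p ^ (i + 1) = E.index) (h : K.lowerCentralSeries (i + 1) = ⊥) :
    False := by
  have key : ∀ j, j ≤ i → ∃ A : Subgroup P, E ≤ A ∧ A ≤ K ∧
      K.lowerCentralSeries (i - j) ≤ A ∧ E.index ≤ A.index * p ^ j := by
    intro j
    induction j with
    | zero =>
      intro _
      refine ⟨E, le_rfl, hEK, ?_, by simp⟩
      rw [Nat.sub_zero]
      intro x hx
      refine hE.cent (mem_centralizer_iff.mpr fun e he => ?_)
      have h1 : ⁅x, e⁆ ∈ K.lowerCentralSeries (i + 1) := by
        rw [Subgroup.lowerCentralSeries_succ]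
        exact commutator_mem_commutator hx (hEK he)
      rw [h, mem_bot, commutatorElement_eq_one_iff_mul_comm] at h1
      exact h1.symm
    | succ j ih =>
      intro hj
      obtain ⟨A, hEA, hAK, hA, hidx⟩ := ih (by omega)
      refine ⟨normalizer (A : Set P) ⊓ K, hEA.trans (le_inf le_normalizer hAK), inf_le_right,
        ?_, ?_⟩
      · intro x hx
        refine mem_inf.mpr ⟨le_of_mem_normalizer_conj _ fun a ha => ?_,
          Subgroup.lowerCentralSeries_le_self K _ hx⟩
        have h1 : ⁅x, a⁆ ∈ K.lowerCentralSeries (i - j) := by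
          rw [show i - j = (i - (j + 1)) + 1 by omega, Subgroup.lowerCentralSeries_succ]
          exact commutator_mem_commutator hx (hAK ha)
        have h2 := A.mul_mem (hA h1) ha
        simpa [commutatorElement_def, mul_assoc] using h2
      · rcases hAK.lt_or_eq with hlt | rfl
        · have h1 := relIndex_mul_index (le_inf (le_normalizer (H := A)) hAK)
          have h2 : A.relIndex (normalizer (A : Set P) ⊓ K) ≤ p := by
            refine (relIndex_le_of_le_right inf_le_left ?_).trans (le_of_eq (hrel A hEA hlt))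
            rw [hrel A hEA hlt]; exact hp.out.ne_zero
          calc E.index ≤ A.index * p ^ j := hidx
            _ ≤ (p * (normalizer (A : Set P) ⊓ K).index) * p ^ j := by
              rw [← h1]; gcongr
            _ = _ := by ring
        · rw [inf_eq_right.mpr le_normalizer, pow_succ, ← mul_assoc]
          exact hidx.trans (Nat.le_mul_of_pos_right _ hp.out.pos)
  obtain ⟨A, hEA, hAK, hA, hidx⟩ := key i le_rfl
  rw [Nat.sub_self, Subgroup.lowerCentralSeries_zero] at hA
  obtain rfl : A = K := le_antisymm hAK hA
  have h0 : 0 < A.index * p ^ i := Nat.mul_pos (Nat.pos_of_ne_zero index_ne_zero_of_finite)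
    (pow_pos hp.out.pos i)
  rw [← hi, pow_succ, ← mul_assoc] at hidx
  have := hp.out.two_le
  nlinarith

/-- Upper bound: if a term of the lower central series lies in `E`, the next is trivial. -/
lemma lcs_succ_eq_bot (hP : IsPGroup p P) {E K : Subgroup P} (hE : IsSoft p E) (hEK : E ≤ K)
    (hK : K < normalizer (K : Set P))
    (hrel : ∀ A : Subgroup P, E ≤ A → A ≠ ⊤ → A.relIndex (normalizer (A : Set P)) = p)
    {i : ℕ} (h : K.lowerCentralSeries i ≤ E) : K.lowerCentralSeries (i + 1) = ⊥ := by
  set M := K.lowerCentralSeries i with hM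
  set R := K ⊓ centralizer (M : Set P) with hR
  have hER : E ≤ R := le_inf hEK fun e he => mem_centralizer_iff.mpr fun m hm => hE.comm m (h hm) e he
  have hRK : R = K := by
    by_contra hne
    have hlt : R < K := lt_of_le_of_ne inf_le_left hne
    have hNR : normalizer (K : Set P) ≤ normalizer (R : Set P) := by
      intro g hg
      refine le_of_mem_normalizer_conj _ fun r hr => mem_inf.mpr ⟨?_, ?_⟩
      · exact (mem_normalizer_iff.mp hg r).mp (mem_inf.mp hr).1
      · refine mem_centralizer_iff.mpr fun m hm => ?_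
        have h1 := (mem_normalizer_iff.mp (normalizer_le_normalizer_lcs K i
          ((normalizer (K : Set P)).inv_mem hg)) m).mp hm
        have h2 := mem_centralizer_iff.mp (mem_inf.mp hr).2 _ h1
        apply mul_left_cancel (a := g⁻¹)
        apply mul_right_cancel (b := g)
        simpa [mul_assoc] using h2
    have hRtop : R ≠ ⊤ := hlt.ne_top
    have h1 := hrel R hER hRtop
    have h2 := eq_of_le_of_prime_relIndex hlt (le_normalizer.trans hNR) h1
    exact hK.not_ge (h2 ▸ hNR)
  rw [Subgroup.lowerCentralSeries_succ, commutator_eq_bot_iff_le_centralizer]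
  intro m hm
  refine mem_centralizer_iff.mpr fun k hk => ?_
  have hk' : k ∈ centralizer (M : Set P) := (mem_inf.mp (hRK.symm ▸ hk : k ∈ R)).2
  exact ((mem_centralizer_iff.mp hk') m hm).symm

end

/-- The main induction. -/
theorem soft_main (p : ℕ) [hp : Fact p.Prime] (n : ℕ) :
    ∀ (P : Type u) [Group P] [Finite P], Nat.card P = n → IsPGroup p P → ∀ E : Subgroup P,
      IsSoft p E → ∀ K : Subgroup P, E ≤ K → K ≠ ⊤ →
        K.relIndex (normalizer (K : Set P)) = p ∧ ∀ i, K.index * p ^ i = E.index →
          K.lowerCentralSeries (i + 1) = ⊥ ∧ K.lowerCentralSeries i ≠ ⊥ := by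
  induction n using Nat.strong_induction_on with
  | _ n ih =>
  intro P _ _ hcard hP E hE
  by_cases hP1 : Subsingleton P
  · intro K _ hK
    exact absurd (Subsingleton.elim _ _) hK
  haveI : Nontrivial P := not_subsingleton_iff_nontrivial.mp hP1
  haveI : Nontrivial (center P) := hP.center_nontrivial
  obtain ⟨z, hzZ, hz⟩ : ∃ z : P, z ∈ center P ∧ orderOf z = p := by
    obtain ⟨k, hk⟩ := IsPGroup.iff_card.mp (hP.to_subgroup (center P))
    have hk0 : k ≠ 0 := by
      rintro rfl
      have := Finite.one_lt_card (α := center P)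
      rw [pow_zero] at hk; rw [hk] at this; exact lt_irrefl _ this
    obtain ⟨⟨z, hzZ⟩, hz⟩ := exists_prime_orderOf_dvd_card' (G := center P) p
      (hk ▸ dvd_pow_self p hk0)
    exact ⟨z, hzZ, by simpa [Subgroup.orderOf_mk] using hz⟩
  have hzE : z ∈ E := hE.cent (mem_centralizer_iff.mpr fun e _ => (mem_center_iff.mp hzZ) e)
  set Z := zpowers z with hZ
  haveI : Z.Normal := ⟨fun a ha g => by
    obtain ⟨k, rfl⟩ := mem_zpowers_iff.mp ha
    rw [mem_center_iff.mp ((center P).zpow_mem hzZ k) g, mul_inv_cancel_right]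
    exact zpow_mem_zpowers z k⟩
  have hZE : Z ≤ E := zpowers_le.mpr hzE
  have hQ : Nat.card (P ⧸ Z) < n := by
    have h1 := Subgroup.card_eq_card_quotient_mul_card_subgroup Z
    rw [hcard, Nat.card_zpowers, hz] at h1
    rw [h1]
    exact lt_mul_of_one_lt_right Nat.card_pos hp.out.one_lt
  set π := QuotientGroup.mk' Z with hπ
  have hsurj : Function.Surjective π := QuotientGroup.mk'_surjective Z
  have hcm : ∀ A : Subgroup P, Z ≤ A → (A.map π).comap π = A := fun A hA =>
    comap_map_eq_self (by rwa [QuotientGroup.ker_mk'])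
  have hidx : ∀ A : Subgroup P, Z ≤ A → (A.map π).index = A.index := fun A hA => by
    conv_rhs => rw [← hcm A hA, index_comap_of_surjective _ hsurj]
  have hrelmap : ∀ A : Subgroup P, Z ≤ A →
      (A.map π).relIndex (normalizer (A.map π : Set (P ⧸ Z))) =
        A.relIndex (normalizer (A : Set P)) := by
    intro A hA
    have h1 : (normalizer (A.map π : Set (P ⧸ Z))).comap π = normalizer (A : Set P) := by
      rw [comap_normalizer_eq_of_surjective _ hsurj, hcm A hA]
    calc (A.map π).relIndex (normalizer (A.map π : Set (P ⧸ Z)))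
        = (A.map π).relIndex (((normalizer (A.map π : Set (P ⧸ Z))).comap π).map π) := by
          rw [map_comap_eq_self_of_surjective hsurj]
      _ = ((A.map π).comap π).relIndex ((normalizer (A.map π : Set (P ⧸ Z))).comap π) :=
          (relIndex_comap _ _ _).symm
      _ = A.relIndex (normalizer (A : Set P)) := by rw [hcm A hA, h1]
  set N1 := normalizer (E : Set P) with hN1
  -- the soft subgroup in the quotient
  have hrel_and : ∀ K : Subgroup P, E < K → K ≠ ⊤ → K.relIndex (normalizer (K : Set P)) = p ∧
      ∀ i, K.index * p ^ i = E.index → K.lowerCentralSeries i ≤ E := by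
    intro K hEK hKtop
    have hN1K : N1 ≤ K := normalizer_le_of_lt hP hE.rel hEK
    have hN1top : N1 ≠ ⊤ := fun h => hKtop (top_le_iff.mp (h ▸ hN1K))
    have hKmap : K.map π ≠ ⊤ := fun h => hKtop (by rw [← hcm K (hZE.trans hEK.le), h, comap_top])
    have hEN1 : E ≤ N1 := le_normalizer
    have hEcomm : ∀ a ∈ E.map π, ∀ b ∈ E.map π, a * b = b * a := by
      rintro _ ⟨a, ha, rfl⟩ _ ⟨b, hb, rfl⟩
      rw [← map_mul, ← map_mul, hE.comm a ha b hb]
    have hgN1 : ∀ g : P, π g ∈ centralizer (E.map π : Set (P ⧸ Z)) → g ∈ N1 := by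
      intro g hg
      refine le_of_mem_normalizer_conj _ fun e he => ?_
      have h1 : π (g * e * g⁻¹) = π e := by
        rw [map_mul, map_mul, map_inv, ← mem_centralizer_iff.mp hg (π e) (mem_map_of_mem π he),
          mul_inv_cancel_right]
      have h2 : g * e * g⁻¹ ∈ (E.map π).comap π := by
        rw [mem_comap, h1]; exact mem_map_of_mem π he
      rwa [hcm E hZE] at h2
    by_cases hA : N1.map π ≤ centralizer (E.map π : Set (P ⧸ Z))
    · have hsoft : IsSoft p (N1.map π) := by
        refine ⟨?_, ?_, ?_⟩
        · obtain ⟨g, hg, hgE⟩ : ∃ g ∈ N1, g ∉ E := by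
            by_contra! hcon
            have := relIndex_eq_one.mpr (show N1 ≤ E from hcon)
            rw [hE.rel] at this
            exact hp.out.ne_one this
          have hs : E.map π ⊔ zpowers (π g) = N1.map π := by
            rw [← MonoidHom.map_zpowers, ← Subgroup.map_sup,
              sup_zpowers_eq hEN1 hE.rel hg hgE]
          have hgc : π g ∈ centralizer (E.map π : Set (P ⧸ Z)) := hA (mem_map_of_mem π hg)
          have h1 : N1.map π ≤ centralizer ({π g} : Set (P ⧸ Z)) := by
            rw [← hs]
            refine sup_le (fun e he => mem_centralizer_singleton_iff.mpr ?_)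
              (zpowers_le.mpr (mem_centralizer_singleton_iff.mpr rfl))
            exact mem_centralizer_iff.mp hgc e he
          have h2 : N1.map π ≤ centralizer (N1.map π : Set (P ⧸ Z)) := by
            rw [le_centralizer_iff]
            conv_lhs => rw [← hs]
            refine sup_le (le_centralizer_iff.mp hA) (zpowers_le.mpr ?_)
            exact mem_centralizer_iff.mpr fun b hb =>
              mem_centralizer_singleton_iff.mp (h1 hb)
          intro a ha b hb
          exact ((mem_centralizer_iff.mp (h2 ha)) b hb).symm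
        · intro x hx
          obtain ⟨g, rfl⟩ := hsurj x
          exact mem_map_of_mem π
            (hgN1 g (centralizer_le (Subgroup.map_mono hEN1) hx))
        · rw [hrelmap N1 (hZE.trans hEN1)]
          exact rel_normalizer_normalizer hP hE hN1top
      obtain ⟨hr, hc⟩ := ih _ hQ (P ⧸ Z) rfl (hP.to_quotient Z) _ hsoft (K.map π)
        (Subgroup.map_mono hN1K) hKmap
      refine ⟨by rwa [hrelmap K (hZE.trans hEK.le)] at hr, fun i hi => ?_⟩
      have hN1i : N1.index * p = E.index := by
        rw [mul_comm, ← hE.rel]; exact relIndex_mul_index hEN1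
      obtain ⟨i, rfl⟩ : ∃ j, i = j + 1 := by
        refine Nat.exists_eq_succ_of_ne_zero fun h0 => ?_
        subst h0
        rw [pow_zero, mul_one, ← hN1i] at hi
        have h1 : K.index ≤ N1.index := Nat.le_of_dvd
          (Nat.pos_of_ne_zero index_ne_zero_of_finite) (index_dvd_of_le hN1K)
        have := hp.out.two_le
        have := Nat.pos_of_ne_zero (index_ne_zero_of_finite (H := N1))
        nlinarith
      have h1 := (hc i (by
        rw [hidx K (hZE.trans hEK.le), hidx N1 (hZE.trans hEN1)]
        rw [← hN1i, pow_succ, ← mul_assoc] at hi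
        exact Nat.eq_of_mul_eq_mul_right hp.out.pos hi)).1
      rw [← map_lowerCentralSeries] at h1
      rw [Subgroup.map_eq_bot_iff, QuotientGroup.ker_mk'] at h1
      exact h1.trans hZE
    · have hsoft : IsSoft p (E.map π) := by
        refine ⟨hEcomm, ?_, by rw [hrelmap E hZE]; exact hE.rel⟩
        intro x hx
        obtain ⟨g, rfl⟩ := hsurj x
        refine mem_map_of_mem π (by_contra fun hgE => hA ?_)
        rw [← sup_zpowers_eq hEN1 hE.rel (hgN1 g hx) hgE, Subgroup.map_sup, MonoidHom.map_zpowers]
        exact sup_le (fun a ha => mem_centralizer_iff.mpr fun b hb => hEcomm b hb a ha)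
          (zpowers_le.mpr hx)
      obtain ⟨hr, hc⟩ := ih _ hQ (P ⧸ Z) rfl (hP.to_quotient Z) _ hsoft (K.map π)
        (Subgroup.map_mono hEK.le) hKmap
      refine ⟨by rwa [hrelmap K (hZE.trans hEK.le)] at hr, fun i hi => ?_⟩
      have h1 := (hc i (by rw [hidx K (hZE.trans hEK.le), hidx E hZE]; exact hi)).1
      intro m hm
      rw [← hcm E hZE, mem_comap]
      refine hsoft.cent (mem_centralizer_iff.mpr fun e he => ?_)
      have h2 : π m ∈ (K.map π).lowerCentralSeries i := by
        rw [← map_lowerCentralSeries]; exact mem_map_of_mem π hm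
      have h3 : ⁅π m, e⁆ ∈ (K.map π).lowerCentralSeries (i + 1) := by
        rw [Subgroup.lowerCentralSeries_succ]
        exact commutator_mem_commutator h2 (Subgroup.map_mono hEK.le he)
      rw [h1, mem_bot, commutatorElement_eq_one_iff_mul_comm] at h3
      exact h3.symm
  have hrel : ∀ A : Subgroup P, E ≤ A → A ≠ ⊤ → A.relIndex (normalizer (A : Set P)) = p := by
    intro A hA hAtop
    rcases hA.lt_or_eq with h | rfl
    · exact (hrel_and A h hAtop).1
    · exact hE.rel
  intro K hEK hKtop
  refine ⟨hrel K hEK hKtop, fun i hi => ⟨?_, ?_⟩⟩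
  · have hKN : K < normalizer (K : Set P) := by
      have := lt_normalizer_inf hP.isNilpotent (lt_top_iff_ne_top.mpr hKtop)
      rwa [inf_top_eq] at this
    refine lcs_succ_eq_bot hP hE hEK hKN hrel ?_
    rcases hEK.lt_or_eq with h | h
    · exact (hrel_and K h hKtop).2 i hi
    · exact (Subgroup.lowerCentralSeries_le_self K i).trans h.ge
  · cases i with
    | zero =>
      rw [Subgroup.lowerCentralSeries_zero]
      intro hK
      have h1 : E = ⊥ := eq_bot_iff.mpr (hK ▸ hEK)
      refine hKtop (top_le_iff.mp ?_)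
      refine le_trans (fun x _ => hE.cent ?_) hEK
      rw [h1, coe_bot]
      exact mem_centralizer_singleton_iff.mpr (by simp)
    | succ i =>
      exact index_gt_of_lcs hP hE hEK
        (fun A hA hAK => hrel A hA (hAK.ne_top)) hi

theorem soft_chain {P : Type u} [Group P] [Finite P] (p : ℕ) [hp : Fact p.Prime]
    (hP : IsPGroup p P) {E : Subgroup P} (hE : IsSoft p E) (K L : Subgroup P) (hK : E ≤ K)
    (hL : E ≤ L) : K ≤ L ∨ L ≤ K := by
  by_contra! hcon
  have hAK : K ⊓ L < K := inf_lt_left.mpr hcon.1
  have hAL : K ⊓ L < L := inf_lt_right.mpr hcon.2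
  have hr := (soft_main p _ P rfl hP E hE (K ⊓ L) (le_inf hK hL) hAK.ne_top).1
  have h1 := le_inf (normalizer_le_of_lt hP hr hAK) (normalizer_le_of_lt hP hr hAL)
  rw [relIndex_eq_one.mpr h1] at hr
  exact hp.out.ne_one hr.symm

end Cfsg.Agent.Soft
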